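import Mathlib

/-!
# NO-3S, `q = 2`: duality tools (helper804 #14168), abstract part

`DW q W K` : `q` is an involution (or 1) of the elementary abelian 2-group `W`, and `K ≤ C_G(q)` acts on `W` by
`k w k⁻¹ ∈ {w, q w}`; `nn W K = C_W(K)`.

* `DW.dual` (D0) : `C_W(C_K(U)) = U C_W(K)` for `U ≤ W`; `DW.exists_mover` : the same, in elements;
* `DW.comm_mem` (D2) : `p ∈ W`, `X ≤ C(q) ∩ N(W) ∩ N(K)` normalised by `C_K(p)`, `w ∈ C_W(X ∩ K)`:
  `[w, X] ≤ ⟨p⟩ C_W(K)`; `DW.comm_mem'` : the same for all `w ∈ W` if `q ∉ X`, `W ≤ N(X)`;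
* `DW.count` (D4), in the general form: `b` centralises `X ∩ K` and `q ∉ [b, A]`; `DW.count'` : `q ∉ X`;
* `DW.exists_e` (D5) : if no element of `b C_W(x)` centralises `E ≤ K`, some `e ∈ E` has `[b, e] = q` and
  `C_W(x) ≤ C_W(e)`;
* `inf_conj_eq` (D7).
-/

set_option autoImplicit false

namespace Cfsg.Agent.Omega.NO3S.Dual

open Subgroup

variable {G : Type*} [Group G]

/-- `C_W(K)` -/
def nn (W K : Subgroup G) : Subgroup G := W ⊓ centralizer (K : Set G)

theorem mem_nn {W K : Subgroup G} {w : G} : w ∈ nn W K ↔ w ∈ W ∧ ∀ k ∈ K, k * w = w * k := by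
  unfold nn
  rw [mem_inf, mem_centralizer_iff]
  rfl

/-- `K` acts on the elementary abelian 2-group `W` by multiplication with `1` or `q ∈ W`. -/
structure DW (q : G) (W K : Subgroup G) : Prop where
  q_mem : q ∈ W
  comm : ∀ a ∈ W, ∀ b ∈ W, a * b = b * a
  sq : ∀ a ∈ W, a * a = 1
  cent : ∀ k ∈ K, k * q = q * k
  act : ∀ k ∈ K, ∀ w ∈ W, k * w * k⁻¹ = w ∨ k * w * k⁻¹ = q * w

theorem comm_of_conj_eq {a b : G} (h : a * b * a⁻¹ = b) : a * b = b * a := by
  calc a * b = (a * b * a⁻¹) * a := by group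
    _ = b * a := by rw [h]

theorem conj_eq_of_comm {a b : G} (h : a * b = b * a) : a * b * a⁻¹ = b := by
  rw [h]; group

theorem card_mul_relIndex_of_le {H K : Subgroup G} (h : H ≤ K) : Nat.card H * H.relIndex K = Nat.card K := by
  have h1 := Subgroup.relIndex_mul_relIndex ⊥ H K bot_le h
  rwa [relIndex_bot_left, relIndex_bot_left] at h1

/-- the product of two commuting subgroups -/
theorem mem_sup_of_comm {W A B : Subgroup G} (hW : ∀ a ∈ W, ∀ b ∈ W, a * b = b * a) (hA : A ≤ W)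
    (hB : B ≤ W) {x : G} (hx : x ∈ A ⊔ B) : ∃ a ∈ A, ∃ b ∈ B, x = a * b := by
  let D : Subgroup G :=
    { carrier := {x | ∃ a ∈ A, ∃ b ∈ B, x = a * b}
      mul_mem' := by
        rintro _ _ ⟨a, ha, b, hb, rfl⟩ ⟨a', ha', b', hb', rfl⟩
        refine ⟨a * a', mul_mem ha ha', b * b', mul_mem hb hb', ?_⟩
        calc a * b * (a' * b') = a * (b * a') * b' := by group
          _ = a * (a' * b) * b' := by rw [hW b (hB hb) a' (hA ha')]
          _ = a * a' * (b * b') := by group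
      one_mem' := ⟨1, one_mem _, 1, one_mem _, by simp⟩
      inv_mem' := by
        rintro _ ⟨a, ha, b, hb, rfl⟩
        refine ⟨a⁻¹, inv_mem ha, b⁻¹, inv_mem hb, ?_⟩
        rw [hW a (hA ha) b (hB hb)]
        group }
  have h1 : A ⊔ B ≤ D := sup_le (fun a ha => ⟨a, ha, 1, one_mem _, by simp⟩)
    fun b hb => ⟨1, one_mem _, b, hb, by simp⟩
  exact h1 hx

namespace DW

variable {q : G} {W K : Subgroup G}

theorem mono (h : DW q W K) {E : Subgroup G} (hE : E ≤ K) : DW q W E :=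
  ⟨h.q_mem, h.comm, h.sq, fun k hk => h.cent k (hE hk), fun k hk => h.act k (hE hk)⟩

theorem inv_eq (h : DW q W K) {a : G} (ha : a ∈ W) : a⁻¹ = a := inv_eq_of_mul_eq_one_left (h.sq a ha)

theorem qq (h : DW q W K) : q * q = 1 := h.sq q h.q_mem

theorem q_mem_nn (h : DW q W K) : q ∈ nn W K := mem_nn.2 ⟨h.q_mem, h.cent⟩

/-- a product of two movers is not a mover -/
theorem two_movers (h : DW q W K) {k k' u : G} (hk : k ∈ K) (hk' : k' ∈ K) (hu : k * u * k⁻¹ = q * u)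
    (hu' : k' * u * k'⁻¹ = q * u) : k' * k⁻¹ * u = u * (k' * k⁻¹) := by
  have e1 : k⁻¹ * (q * u) * k = u := by
    calc k⁻¹ * (q * u) * k = k⁻¹ * (k * u * k⁻¹) * k := by rw [hu]
      _ = u := by group
  have hq1 : k⁻¹ * q * k = q := by
    have := h.cent k hk
    calc k⁻¹ * q * k = k⁻¹ * (q * k) := by group
      _ = k⁻¹ * (k * q) := by rw [this]
      _ = q := by group
  have e2 : k⁻¹ * u * k = q * u := by
    have h1 : q * (k⁻¹ * u * k) = u := by
      calc q * (k⁻¹ * u * k) = (k⁻¹ * q * k) * (k⁻¹ * u * k) := by rw [hq1]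
        _ = k⁻¹ * (q * u) * k := by group
        _ = u := e1
    calc k⁻¹ * u * k = q * q * (k⁻¹ * u * k) := by rw [h.qq, one_mul]
      _ = q * (q * (k⁻¹ * u * k)) := by group
      _ = q * u := by rw [h1]
  refine comm_of_conj_eq ?_
  have hq2 : k' * q * k'⁻¹ = q := conj_eq_of_comm (h.cent k' hk')
  calc k' * k⁻¹ * u * (k' * k⁻¹)⁻¹ = k' * (k⁻¹ * u * k) * k'⁻¹ := by group
    _ = (k' * q * k'⁻¹) * (k' * u * k'⁻¹) := by rw [e2]; group
    _ = q * q * u := by rw [hq2, hu']; group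
    _ = u := by rw [h.qq, one_mul]

/-- (D0) for the subgroup generated by a finite set -/
theorem dual_aux (h : DW q W K) (s : Finset G) (hs : ∀ u ∈ s, u ∈ W) :
    ∀ w ∈ W, (∀ k ∈ K, (∀ u ∈ s, k * u = u * k) → k * w = w * k) →
      w ∈ closure (s : Set G) ⊔ nn W K := by
  classical
  induction s using Finset.induction_on with
  | empty =>
    intro w hw hk
    exact mem_sup_right (mem_nn.2 ⟨hw, fun k hk' => hk k hk' (by simp)⟩)
  | insert u s hus ih =>
    intro w hw hkw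
    have hs' : ∀ v ∈ s, v ∈ W := fun v hv => hs v (Finset.mem_insert_of_mem hv)
    have hu : u ∈ W := hs u (Finset.mem_insert_self u s)
    have hle : closure (s : Set G) ⊔ nn W K ≤ closure ((insert u s : Finset G) : Set G) ⊔ nn W K :=
      sup_le_sup_right (Subgroup.closure_mono (by simp)) _
    have hu' : u ∈ closure ((insert u s : Finset G) : Set G) ⊔ nn W K :=
      mem_sup_left (subset_closure (by simp))
    by_cases hA : ∀ k ∈ K, (∀ v ∈ s, k * v = v * k) → k * u = u * k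
    · refine hle (ih hs' w hw fun k hk hks => hkw k hk fun v hv => ?_)
      rcases Finset.mem_insert.1 hv with rfl | hv
      · exact hA k hk hks
      · exact hks v hv
    · push Not at hA
      obtain ⟨k, hk, hks, hku⟩ := hA
      have hku' : k * u * k⁻¹ = q * u := (h.act k hk u hu).resolve_left fun e => hku (comm_of_conj_eq e)
      -- the correction of `w`
      have key : ∀ w' ∈ W, k * w' = w' * k →
          (∀ k' ∈ K, (∀ v ∈ s, k' * v = v * k') → k' * u = u * k' → k' * w' = w' * k') →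
          w' ∈ closure (s : Set G) ⊔ nn W K := by
        intro w' hw' hkw' hk2
        refine ih hs' w' hw' fun k' hk' hks' => ?_
        by_cases hk'u : k' * u = u * k'
        · exact hk2 k' hk' hks' hk'u
        · have hk'u' : k' * u * k'⁻¹ = q * u :=
            (h.act k' hk' u hu).resolve_left fun e => hk'u (comm_of_conj_eq e)
          have h1 := h.two_movers hk hk' hku' hk'u'
          have h2 := hk2 _ (mul_mem hk' (inv_mem hk)) (fun v hv => by
            have e1 := hks v hv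
            have e2 := hks' v hv
            have e3 : k⁻¹ * v = v * k⁻¹ := by
              calc k⁻¹ * v = k⁻¹ * (v * k) * k⁻¹ := by group
                _ = k⁻¹ * (k * v) * k⁻¹ := by rw [e1]
                _ = v * k⁻¹ := by group
            calc k' * k⁻¹ * v = k' * (k⁻¹ * v) := by group
              _ = k' * v * k⁻¹ := by rw [e3]; group
              _ = v * (k' * k⁻¹) := by rw [e2]; group) h1
          calc k' * w' = (k' * k⁻¹) * (k * w') := by group
            _ = (k' * k⁻¹ * w') * k := by rw [hkw']; group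
            _ = w' * k' := by rw [h2]; group
      rcases h.act k hk w hw with e | e
      · refine hle (key w hw (comm_of_conj_eq e) fun k' hk' hks' hk'u => hkw k' hk' fun v hv => ?_)
        rcases Finset.mem_insert.1 hv with rfl | hv
        · exact hk'u
        · exact hks' v hv
      · have hwu : w * u ∈ closure (s : Set G) ⊔ nn W K := by
          refine key (w * u) (mul_mem hw hu) (comm_of_conj_eq ?_) fun k' hk' hks' hk'u => ?_
          · calc k * (w * u) * k⁻¹ = (k * w * k⁻¹) * (k * u * k⁻¹) := by group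
              _ = q * (w * q) * u := by rw [e, hku']; group
              _ = q * (q * w) * u := by rw [h.comm w hw q h.q_mem]
              _ = (q * q) * (w * u) := by group
              _ = w * u := by rw [h.qq, one_mul]
          · have h1 := hkw k' hk' fun v hv => by
              rcases Finset.mem_insert.1 hv with rfl | hv
              · exact hk'u
              · exact hks' v hv
            calc k' * (w * u) = (k' * w) * u := by group
              _ = w * (k' * u) := by rw [h1]; group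
              _ = w * u * k' := by rw [hk'u]; group
        have e2 : w = w * u * u := by rw [mul_assoc, h.sq u hu, mul_one]
        rw [e2]
        exact mul_mem (hle hwu) hu'

/-- **(D0)** an element of `W` centralised by `C_K(U)` is in `U C_W(K)`. -/
theorem dual (h : DW q W K) {U : Subgroup G} [Finite U] (hU : U ≤ W) {w : G} (hw : w ∈ W)
    (hc : ∀ k ∈ K, (∀ u ∈ U, k * u = u * k) → k * w = w * k) : w ∈ U ⊔ nn W K := by
  classical
  have : Fintype (U : Set G) := Fintype.ofFinite U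
  have h1 := h.dual_aux (U : Set G).toFinset (fun u hu => hU (by simpa using hu)) w hw
    (fun k hk hks => hc k hk fun u hu => hks u (by simpa using hu))
  simpa using h1

/-- **(D0)**, in elements -/
theorem exists_mover (h : DW q W K) {U : Subgroup G} [Finite U] (hU : U ≤ W) {w : G} (hw : w ∈ W)
    (hn : w ∉ U ⊔ nn W K) : ∃ k ∈ K, (∀ u ∈ U, k * u = u * k) ∧ k * w * k⁻¹ = q * w := by
  by_contra hcon
  push Not at hcon
  refine hn (h.dual hU hw fun k hk hks => ?_)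
  rcases h.act k hk w hw with e | e
  · exact comm_of_conj_eq e
  · exact absurd e (hcon k hk hks)

/-- (D0), as an equality of subgroups -/
theorem dual_eq (h : DW q W K) {U : Subgroup G} [Finite U] (hU : U ≤ W) :
    W ⊓ centralizer ((K ⊓ centralizer (U : Set G) : Subgroup G) : Set G) = U ⊔ nn W K := by
  apply le_antisymm
  · rintro w ⟨hw, hc⟩
    refine h.dual hU hw fun k hk hks => ?_
    exact mem_centralizer_iff.1 hc k ⟨hk, mem_centralizer_iff.2 fun u hu => (hks u hu).symm⟩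
  · refine sup_le (fun u hu => ⟨hU hu, mem_centralizer_iff.2 ?_⟩) fun w hw => ?_
    · rintro k ⟨-, hk⟩
      exact (mem_centralizer_iff.1 hk u hu).symm
    · rw [mem_nn] at hw
      exact ⟨hw.1, mem_centralizer_iff.2 fun k hk => hw.2 k hk.1⟩

/-! ### (D2) -/

/-- The hypotheses on `X` in (D2). -/
structure Nrm (q p : G) (W K X : Subgroup G) : Prop where
  p_mem : p ∈ W
  cent : ∀ u ∈ X, u * q = q * u
  W_norm : ∀ u ∈ X, ∀ w ∈ W, u * w * u⁻¹ ∈ W
  K_norm : ∀ u ∈ X, ∀ k ∈ K, u * k * u⁻¹ ∈ K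
  norm : ∀ k ∈ K, k * p = p * k → ∀ u ∈ X, k * u * k⁻¹ ∈ X

/-- **(D2)**, general form: `w ∈ C_W(X ∩ K)` implies `[w, X] ≤ ⟨p⟩ C_W(K)`. -/
theorem comm_mem (h : DW q W K) {p : G} {X : Subgroup G} (hX : Nrm q p W K X) {w : G} (hw : w ∈ W)
    (hwc : ∀ e ∈ X ⊓ K, e * w = w * e) {u : G} (hu : u ∈ X) :
    u * w * u⁻¹ * w⁻¹ ∈ zpowers p ⊔ nn W K := by
  have hp2 : p ^ 2 = 1 := by rw [pow_two]; exact h.sq p hX.p_mem
  have : Finite (zpowers p) := by
    have : IsOfFinOrder p := isOfFinOrder_iff_pow_eq_one.2 ⟨2, by norm_num, hp2⟩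
    exact this.finite_zpowers
  have hw' := hX.W_norm u hu w hw
  refine h.dual ((zpowers_le).2 hX.p_mem) (mul_mem hw' (inv_mem hw)) fun k hk hks => ?_
  have hkp := hks p (mem_zpowers p)
  -- `e = k⁻¹ (u⁻¹ k u)`
  have hku : u⁻¹ * k * u ∈ K := by
    have := hX.K_norm u⁻¹ (inv_mem hu) k hk
    simpa using this
  have hk'p : k⁻¹ * p = p * k⁻¹ := by
    calc k⁻¹ * p = k⁻¹ * (p * k) * k⁻¹ := by group
      _ = k⁻¹ * (k * p) * k⁻¹ := by rw [hkp]
      _ = p * k⁻¹ := by group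
  have he1 : k⁻¹ * u⁻¹ * k ∈ X := by
    have := hX.norm k⁻¹ (inv_mem hk) hk'p u⁻¹ (inv_mem hu)
    simpa using this
  set e := k⁻¹ * (u⁻¹ * k * u) with he
  have heX : e ∈ X := by
    have : e = (k⁻¹ * u⁻¹ * k) * u := by rw [he]; group
    rw [this]
    exact mul_mem he1 hu
  have heK : e ∈ K := mul_mem (inv_mem hk) hku
  have hew := conj_eq_of_comm (hwc e ⟨heX, heK⟩)
  have hk2 : u⁻¹ * k * u = k * e := by rw [he]; group
  have hmain : k * (u * w * u⁻¹) * k⁻¹ = u * (k * w * k⁻¹) * u⁻¹ := by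
    calc k * (u * w * u⁻¹) * k⁻¹ = u * ((u⁻¹ * k * u) * w * (u⁻¹ * k * u)⁻¹) * u⁻¹ := by group
      _ = u * (k * (e * w * e⁻¹) * k⁻¹) * u⁻¹ := by rw [hk2]; group
      _ = u * (k * w * k⁻¹) * u⁻¹ := by rw [hew]
  refine comm_of_conj_eq ?_
  have hsplit : k * (u * w * u⁻¹ * w⁻¹) * k⁻¹ = (k * (u * w * u⁻¹) * k⁻¹) * (k * w * k⁻¹)⁻¹ := by group
  rcases h.act k hk w hw with e' | e'
  · rw [hsplit, hmain, e']
  · have huq : u * q * u⁻¹ = q := conj_eq_of_comm (hX.cent u hu)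
    have e3 : u * (q * w) * u⁻¹ = (u * w * u⁻¹) * q := by
      calc u * (q * w) * u⁻¹ = (u * q * u⁻¹) * (u * w * u⁻¹) := by group
        _ = q * (u * w * u⁻¹) := by rw [huq]
        _ = (u * w * u⁻¹) * q := h.comm q h.q_mem _ hw'
    rw [hsplit, hmain, e', e3]
    have e4 : (q * w)⁻¹ = q⁻¹ * w⁻¹ := by
      rw [h.comm q h.q_mem w hw]; group
    rw [e4]
    group

/-- In (D2): `q ∉ X` and `W ≤ N(X)` imply that `X ∩ K` centralises `W`. -/
theorem cent_of_not_mem (h : DW q W K) {X : Subgroup G} (hWX : ∀ w ∈ W, ∀ u ∈ X, w * u * w⁻¹ ∈ X)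
    (hq : q ∉ X) {w : G} (hw : w ∈ W) : ∀ e ∈ X ⊓ K, e * w = w * e := by
  rintro e ⟨heX, heK⟩
  rcases h.act e heK w hw with h1 | h1
  · exact comm_of_conj_eq h1
  · exfalso
    apply hq
    have h2 : q = e * (w * e⁻¹ * w⁻¹) := by
      calc q = (q * w) * w⁻¹ := by group
        _ = (e * w * e⁻¹) * w⁻¹ := by rw [h1]
        _ = e * (w * e⁻¹ * w⁻¹) := by group
    rw [h2]
    exact mul_mem heX (hWX w hw _ (inv_mem heX))

/-- **(D2)**: `[W, X] ≤ ⟨p⟩ C_W(K)` if `q ∉ X`. -/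
theorem comm_mem' (h : DW q W K) {p : G} {X : Subgroup G} (hX : Nrm q p W K X)
    (hWX : ∀ w ∈ W, ∀ u ∈ X, w * u * w⁻¹ ∈ X) (hq : q ∉ X) {w : G} (hw : w ∈ W) {u : G} (hu : u ∈ X) :
    u * w * u⁻¹ * w⁻¹ ∈ zpowers p ⊔ nn W K :=
  h.comm_mem hX hw (h.cent_of_not_mem hWX hq hw) hu

/-! ### (D4), the count -/

/-- `|F| ≤ 2 |F ∩ N|` if `F ≤ ⟨p⟩ N`, `p * p = 1`, in an abelian group -/
theorem card_le_two (h : DW q W K) [Finite G] {p : G} (hp : p ∈ W) {F : Subgroup G}
    (hF : F ≤ zpowers p ⊔ nn W K) : Nat.card F ≤ 2 * Nat.card (F ⊓ nn W K : Subgroup G) := by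
  have hpp := h.sq p hp
  have hNW : nn W K ≤ W := inf_le_left
  have hmem : ∀ f ∈ F, f ∈ nn W K ∨ ∃ n ∈ nn W K, f = p * n := by
    intro f hf
    obtain ⟨a, ha, n, hn, e⟩ := mem_sup_of_comm h.comm ((zpowers_le).2 hp) hNW (hF hf)
    obtain ⟨k, rfl⟩ := mem_zpowers_iff.1 ha
    have h2 : p ^ (2 : ℤ) = 1 := by
      rw [zpow_two, hpp]
    rcases Int.even_or_odd' k with ⟨m, hm | hm⟩
    · left
      have : p ^ k = 1 := by rw [hm, zpow_mul, h2, one_zpow]
      rw [e, this, one_mul]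
      exact hn
    · right
      have : p ^ k = p := by rw [hm, zpow_add, zpow_mul, h2, one_zpow, one_mul, zpow_one]
      exact ⟨n, hn, by rw [e, this]⟩
  have hidx : (F ⊓ nn W K : Subgroup G).relIndex F ≤ 2 := by
    by_cases hall : ∀ f ∈ F, f ∈ nn W K
    · have : F ⊓ nn W K = F := inf_eq_left.2 hall
      rw [this, relIndex_self]
      norm_num
    · push Not at hall
      obtain ⟨f₀, hf₀, hf₀n⟩ := hall
      refine le_of_eq ?_
      rw [Subgroup.relIndex_eq_two_iff]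
      refine ⟨f₀, hf₀, fun f hf => ?_⟩
      obtain ⟨n₀, hn₀, e₀⟩ := (hmem f₀ hf₀).resolve_left hf₀n
      have hf₀W : f₀ ∈ W := by rw [e₀]; exact mul_mem hp (hNW hn₀)
      have hfW : f ∈ W := by
        rcases hmem f hf with h1 | ⟨n, hn, e⟩
        · exact hNW h1
        · rw [e]; exact mul_mem hp (hNW hn)
      by_cases hfn : f ∈ nn W K
      · right
        refine ⟨⟨hf, hfn⟩, fun hc => hf₀n ?_⟩
        have : f₀ = f⁻¹ * (f * f₀) := by group
        rw [this]
        exact mul_mem (inv_mem hfn) hc.2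
      · left
        obtain ⟨n, hn, e⟩ := (hmem f hf).resolve_left hfn
        refine ⟨⟨mul_mem hf hf₀, ?_⟩, fun hc => hfn hc.2⟩
        have : f * f₀ = n * n₀ := by
          rw [e, e₀]
          calc p * n * (p * n₀) = p * (n * p) * n₀ := by group
            _ = p * (p * n) * n₀ := by rw [h.comm n (hNW hn) p hp]
            _ = (p * p) * (n * n₀) := by group
            _ = n * n₀ := by rw [hpp, one_mul]
        rw [this]
        exact mul_mem hn hn₀
  have h3 := card_mul_relIndex_of_le (H := F ⊓ nn W K) (K := F) inf_le_left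
  calc Nat.card F = Nat.card (F ⊓ nn W K : Subgroup G) * (F ⊓ nn W K : Subgroup G).relIndex F := h3.symm
    _ ≤ Nat.card (F ⊓ nn W K : Subgroup G) * 2 := Nat.mul_le_mul_left _ hidx
    _ = 2 * Nat.card (F ⊓ nn W K : Subgroup G) := by ring

/-- **(D4)**, general form. `b ∈ C_W(X ∩ K)`, `F ≤ [b, A]`, `A ≤ X`, `q ∉ F`, `I ∩ C_W(K) ≤ ⟨q⟩`,
`2 |W : I| ≤ |F|`, `A` centralises `F` and `I`: then `A` centralises `b`. -/
theorem count (h : DW q W K) [Finite G] {p : G} {X : Subgroup G} (hX : Nrm q p W K X) {b : G} (hb : b ∈ W)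
    (hbc : ∀ e ∈ X ⊓ K, e * b = b * e) {A F I : Subgroup G} (hAX : A ≤ X)
    (hF : ∀ f ∈ F, ∃ a ∈ A, f = a * b * a⁻¹ * b⁻¹) (hq : q ∉ F) (hIW : I ≤ W)
    (hI : I ⊓ nn W K ≤ zpowers q) (hcard : 2 * I.relIndex W ≤ Nat.card F)
    (hAF : ∀ a ∈ A, ∀ f ∈ F, a * f = f * a) (hAI : ∀ a ∈ A, ∀ f ∈ I, a * f = f * a) {x : G} (hx : x ∈ A) :
    x * b = b * x := by
  have hFW : F ≤ W := by
    intro f hf
    obtain ⟨a, ha, rfl⟩ := hF f hf
    exact mul_mem (hX.W_norm a (hAX ha) b hb) (inv_mem hb)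
  have hFN : F ≤ zpowers p ⊔ nn W K := by
    intro f hf
    obtain ⟨a, ha, rfl⟩ := hF f hf
    exact h.comm_mem hX hb hbc (hAX ha)
  have h1 := h.card_le_two hX.p_mem hFN
  set D := F ⊓ nn W K with hD
  have h2 : I.relIndex W ≤ Nat.card D := by omega
  -- `D ∩ I = 1`
  have h3 : D ⊓ I = ⊥ := by
    rw [eq_bot_iff]
    intro y hy
    rw [hD, mem_inf, mem_inf] at hy
    obtain ⟨⟨hyF, hyN⟩, hyI⟩ := hy
    have h4 := hI (mem_inf.2 ⟨hyI, hyN⟩)
    obtain ⟨k, rfl⟩ := mem_zpowers_iff.1 h4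
    have hq2 : q ^ (2 : ℤ) = 1 := by
      rw [zpow_two, h.qq]
    rcases Int.even_or_odd' k with ⟨m, hm | hm⟩
    · rw [mem_bot, hm, zpow_mul, hq2, one_zpow]
    · exfalso
      apply hq
      have : q ^ k = q := by rw [hm, zpow_add, zpow_mul, hq2, one_zpow, one_mul, zpow_one]
      rwa [this] at hyF
  have hDW' : D ≤ W := inf_le_left.trans hFW
  have hle : D ⊔ I ≤ W := sup_le hDW' hIW
  -- `|D I| = |D| |I|`
  have h5 : Nat.card W ≤ Nat.card (D ⊔ I : Subgroup G) := by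
    have hcI := card_mul_relIndex_of_le hIW
    have h6 : Nat.card D * Nat.card I ≤ Nat.card (D ⊔ I : Subgroup G) := by
      have : Function.Injective (fun y : D × I => (⟨(y.1 : G) * y.2,
          mul_mem (mem_sup_left y.1.2) (mem_sup_right y.2.2)⟩ : (D ⊔ I : Subgroup G))) := by
        rintro ⟨⟨d, hd⟩, ⟨i, hi⟩⟩ ⟨⟨d', hd'⟩, ⟨i', hi'⟩⟩ e
        have e1 : d * i = d' * i' := congrArg Subtype.val e
        have e2 : d'⁻¹ * d = i' * i⁻¹ := by
          calc d'⁻¹ * d = d'⁻¹ * (d * i) * i⁻¹ := by group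
            _ = d'⁻¹ * (d' * i') * i⁻¹ := by rw [e1]
            _ = i' * i⁻¹ := by group
        have e3 : d'⁻¹ * d ∈ D ⊓ I :=
          mem_inf.2 ⟨mul_mem (inv_mem hd') hd, by rw [e2]; exact mul_mem hi' (inv_mem hi)⟩
        rw [h3, mem_bot] at e3
        have e4 : d = d' := by
          calc d = d' * (d'⁻¹ * d) := by group
            _ = d' := by rw [e3, mul_one]
        have e5 : i = i' := by
          rw [e4] at e1
          exact mul_left_cancel e1
        subst e4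
        subst e5
        rfl
      have := Nat.card_le_card_of_injective _ this
      rwa [Nat.card_prod] at this
    calc Nat.card W = Nat.card I * I.relIndex W := hcI.symm
      _ ≤ Nat.card I * Nat.card D := Nat.mul_le_mul_left _ h2
      _ = Nat.card D * Nat.card I := mul_comm _ _
      _ ≤ _ := h6
  have h7 : D ⊔ I = W := Subgroup.eq_of_le_of_card_ge hle h5
  have hb' : b ∈ D ⊔ I := by rw [h7]; exact hb
  obtain ⟨d, hd, i, hi, rfl⟩ := mem_sup_of_comm h.comm hDW' hIW hb'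
  have e1 := hAF x hx d hd.1
  have e2 := hAI x hx i hi
  calc x * (d * i) = (x * d) * i := by group
    _ = d * (x * i) := by rw [e1]; group
    _ = d * i * x := by rw [e2]; group

/-- **(D4)**: the case `q ∉ X`, `W ≤ N(X)`. -/
theorem count' (h : DW q W K) [Finite G] {p : G} {X : Subgroup G} (hX : Nrm q p W K X)
    (hWX : ∀ w ∈ W, ∀ u ∈ X, w * u * w⁻¹ ∈ X) (hqX : q ∉ X) {b : G} (hb : b ∈ W) {A F I : Subgroup G}
    (hAX : A ≤ X) (hF : ∀ f ∈ F, ∃ a ∈ A, f = a * b * a⁻¹ * b⁻¹) (hIW : I ≤ W)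
    (hI : I ⊓ nn W K ≤ zpowers q) (hcard : 2 * I.relIndex W ≤ Nat.card F)
    (hAF : ∀ a ∈ A, ∀ f ∈ F, a * f = f * a) (hAI : ∀ a ∈ A, ∀ f ∈ I, a * f = f * a) {x : G} (hx : x ∈ A) :
    x * b = b * x := by
  refine h.count hX hb (h.cent_of_not_mem hWX hqX hb) hAX hF (fun hqF => hqX ?_) hIW hI hcard hAF hAI hx
  obtain ⟨a, ha, e⟩ := hF q hqF
  rw [e]
  have : a * b * a⁻¹ * b⁻¹ = a * (b * a⁻¹ * b⁻¹) := by group
  rw [this]
  exact mul_mem (hAX ha) (hWX b hb _ (inv_mem (hAX ha)))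

/-! ### (D5) -/

/-- **(D5)**: `C ≤ W`, `b ∈ W`, `E ≤ K`. If no element of `C b` is centralised by `E`, some `e ∈ E` centralises `C`
and moves `b` to `q b`. -/
theorem exists_e (h : DW q W K) {C E : Subgroup G} [Finite C] (hC : C ≤ W) (hE : E ≤ K) {b : G} (hb : b ∈ W)
    (hn : ∀ c ∈ C, ∃ e ∈ E, e * (c * b) ≠ c * b * e) :
    ∃ e ∈ E, (∀ c ∈ C, e * c = c * e) ∧ e * b * e⁻¹ = q * b := by
  refine (h.mono hE).exists_mover hC hb fun hmem => ?_
  obtain ⟨c, hc, n, hn', rfl⟩ := mem_sup_of_comm h.comm hC (inf_le_left : nn W E ≤ W) hmem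
  obtain ⟨e, he, hne⟩ := hn c⁻¹ (inv_mem hc)
  apply hne
  have : c⁻¹ * (c * n) = n := by group
  rw [this]
  exact (mem_nn.1 hn').2 e he

/-- (D5): `[w, e] = q` if and only if `[w, x] ∉` the kernel of `ψ`: the action of `e` on `W` depends only on
`[w, x]`, if `e` centralises `C_W(x)`. -/
theorem act_of_comm (h : DW q W K) {x e : G} (he : e ∈ K) (hxW : ∀ w ∈ W, x * w * x⁻¹ ∈ W)
    (hC : ∀ w ∈ W, x * w = w * x → e * w = w * e) {w w' : G} (hw : w ∈ W) (hw' : w' ∈ W)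
    (hww : x * w * x⁻¹ * w⁻¹ = x * w' * x⁻¹ * w'⁻¹) : e * w * e⁻¹ * w⁻¹ = e * w' * e⁻¹ * w'⁻¹ := by
  have h1 : x * (w'⁻¹ * w) = w'⁻¹ * w * x := by
    refine comm_of_conj_eq ?_
    have e1 := h.comm _ (hxW w hw) _ (inv_mem hw)
    have e2 := h.comm _ (hxW w' hw') _ (inv_mem hw')
    have e3 : w⁻¹ * (x * w * x⁻¹) = w'⁻¹ * (x * w' * x⁻¹) := by rw [← e1, ← e2, hww]
    calc x * (w'⁻¹ * w) * x⁻¹ = (x * w' * x⁻¹)⁻¹ * (x * w * x⁻¹) := by group
      _ = (x * w' * x⁻¹)⁻¹ * (w * (w⁻¹ * (x * w * x⁻¹))) := by group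
      _ = (x * w' * x⁻¹)⁻¹ * w * w'⁻¹ * (x * w' * x⁻¹) := by rw [e3]; group
      _ = (x * w' * x⁻¹)⁻¹ * (w'⁻¹ * w) * (x * w' * x⁻¹) := by
        have := h.comm w hw w'⁻¹ (inv_mem hw')
        rw [mul_assoc (x * w' * x⁻¹)⁻¹ w w'⁻¹, this]
      _ = (x * w' * x⁻¹)⁻¹ * ((w'⁻¹ * w) * (x * w' * x⁻¹)) := by group
      _ = (x * w' * x⁻¹)⁻¹ * ((x * w' * x⁻¹) * (w'⁻¹ * w)) := by
        rw [h.comm (w'⁻¹ * w) (mul_mem (inv_mem hw') hw) _ (hxW w' hw')]
      _ = w'⁻¹ * w := by group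
  have h2 := hC _ (mul_mem (inv_mem hw') hw) h1
  have e4 : w = w' * (w'⁻¹ * w) := by group
  have e5 : e * (w'⁻¹ * w) * e⁻¹ = w'⁻¹ * w := conj_eq_of_comm h2
  have hew' : e * w' * e⁻¹ ∈ W := by
    rcases h.act e he w' hw' with e' | e'
    · rw [e']; exact hw'
    · rw [e']; exact mul_mem h.q_mem hw'
  calc e * w * e⁻¹ * w⁻¹ = (e * w' * e⁻¹) * (e * (w'⁻¹ * w) * e⁻¹) * w⁻¹ := by group
    _ = (e * w' * e⁻¹) * (w'⁻¹ * w) * w⁻¹ := by rw [e5]
    _ = e * w' * e⁻¹ * w'⁻¹ := by group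

end DW

/-! ### (D7) -/

/-- **(D7)**: `A` centralises `B`; `L = ⟨A, A^g⟩` contains `g`: then `B ∩ B^g = C_B(L)`. -/
theorem inf_conj_eq {A B L : Subgroup G} {g : G} (hAB : A ≤ centralizer (B : Set G))
    (hL : L ≤ A ⊔ A.map (MulAut.conj g).toMonoidHom) (hg : g ∈ L) :
    B ⊓ B.map (MulAut.conj g).toMonoidHom = B ⊓ centralizer (L : Set G) := by
  apply le_antisymm
  · rintro u ⟨hu, hu'⟩
    refine mem_inf.2 ⟨hu, ?_⟩
    have h1 : L ≤ centralizer ({u} : Set G) := by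
      refine hL.trans (sup_le (fun a ha => ?_) ?_)
      · rw [mem_centralizer_singleton_iff]
        exact (mem_centralizer_iff.1 (hAB ha) u hu).symm
      · rintro _ ⟨a, ha, rfl⟩
        obtain ⟨v, hv, rfl⟩ := hu'
        rw [mem_centralizer_singleton_iff]
        have h2 := mem_centralizer_iff.1 (hAB ha) v hv
        change g * a * g⁻¹ * (g * v * g⁻¹) = g * v * g⁻¹ * (g * a * g⁻¹)
        calc g * a * g⁻¹ * (g * v * g⁻¹) = g * (a * v) * g⁻¹ := by group
          _ = g * (v * a) * g⁻¹ := by rw [h2]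
          _ = g * v * g⁻¹ * (g * a * g⁻¹) := by group
    rw [mem_centralizer_iff]
    intro l hl
    exact mem_centralizer_singleton_iff.1 (h1 hl)
  · rintro u ⟨hu, hc⟩
    refine ⟨hu, ⟨u, hu, ?_⟩⟩
    have := mem_centralizer_iff.1 hc g hg
    change g * u * g⁻¹ = u
    rw [this]; group

/-- (D7), second part: `u ∈ B^g` centralised by `w`, `L ≤ ⟨w, A^g⟩`: then `u ∈ C(L)`. -/
theorem mem_centralizer_of_conj {A B L : Subgroup G} {g w u : G} (hAB : A ≤ centralizer (B : Set G))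
    (hL : L ≤ zpowers w ⊔ A.map (MulAut.conj g).toMonoidHom)
    (hu : u ∈ B.map (MulAut.conj g).toMonoidHom) (hw : w * u = u * w) : u ∈ centralizer (L : Set G) := by
  have h1 : L ≤ centralizer ({u} : Set G) := by
    refine hL.trans (sup_le ?_ ?_)
    · rw [zpowers_le, mem_centralizer_singleton_iff]
      exact hw
    · rintro _ ⟨a, ha, rfl⟩
      obtain ⟨v, hv, rfl⟩ := hu
      rw [mem_centralizer_singleton_iff]
      have h2 := mem_centralizer_iff.1 (hAB ha) v hv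
      change g * a * g⁻¹ * (g * v * g⁻¹) = g * v * g⁻¹ * (g * a * g⁻¹)
      calc g * a * g⁻¹ * (g * v * g⁻¹) = g * (a * v) * g⁻¹ := by group
        _ = g * (v * a) * g⁻¹ := by rw [h2]
        _ = g * v * g⁻¹ * (g * a * g⁻¹) := by group
  rw [mem_centralizer_iff]
  intro l hl
  exact mem_centralizer_singleton_iff.1 (h1 hl)

end Cfsg.Agent.Omega.NO3S.Dual
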