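import Cfsg.Agent.Omega.NO3S.TwoOne.Base
import Cfsg.Agent.Omega.NO3S.Dual.Basic

/-!
# NO-3S, `q = 2`: duality tools (helper804 #14168), the flags

`Flag T V z` : helper391's `TwoOne.One` without the hypothesis `[W_z, W_y] ≠ 1`: `Ln T V z`, `W_z` abelian and (F1)
`K_z` moves the points of `V`. All facts of `TwoOne/Base.lean` hold for `Flag` (same names).

* `Flag.dw` : `DW p (ws V p) (kq V p)` for the points of `V`; `Flag.dw_conj` : for all points;
* `Flag.nn_inf` (D1) : `N_p ∩ W_q = ⟨p⟩` for `p ≠ q` in `V#`, `N_p = C_{W_p}(K_p)`; `Flag.card_nn` : `|N_p| ≤ 2 |W_p : I|`;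
* `Flag.exists_transv` (D6) : `K_p ∩ C(V)` induces on `I = ii V` all transvections with centre `p` and axis over `V`;
* `Flag.comm_mem` (D3) : `p ∈ W_q`, `[W_p ∩ K_q, W_q] = 1` implies `[W_q, W_p] ≤ ⟨p⟩ N_q`;
* `Flag.count`, `Flag.count'`, `Flag.exists_e` (D4), (D5) : claim A (a).
-/

set_option autoImplicit false
set_option linter.unusedSectionVars false

namespace Cfsg.Agent.Omega.NO3S.Dual

open Subgroup Cfsg Cfsg.Agent.ZN Cfsg.Agent.MinSimple.Geo Cfsg.Agent.Omega.CaseL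
open Cfsg.Agent.Omega.NO3S.TwoOne (kq_le_centralizer kq_comm cj_kq conj_mem_kq centralizer_le_normalizer_kq kq_cj
  ws_sq ii ii_le normalizer_le_normalizer_ii One)
open Cfsg.Agent.ZN.Block (conj_mem_of_normalizer conj_mem_of_normalizer' le_normalizer_of_forall
  mem_normalizer_of)

universe u

variable {G : Type u} [Group G]

/-- a flag `(z, V)`, `W_z` abelian, with (F1) -/
structure Flag (T V : Subgroup G) (z : G) : Prop where
  ln : Ln T V z
  ab : ∀ a ∈ ws V z, ∀ b ∈ ws V z, a * b = b * a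
  f1 : ∃ k ∈ kq V z, k ∉ centralizer (V : Set G)

theorem Flag.of_one {T V : Subgroup G} {z : G} (h : One T V z) : Flag T V z := ⟨h.ln, h.ab, h.f1⟩

namespace Flag

variable {T V : Subgroup G} {z : G}

theorem conj (h : Flag T V z) (g : G) : Flag (cj g T) (cj g V) (g * z * g⁻¹) where
  ln := h.ln.conj g
  ab := by
    rw [ws_cj, ← cj_ws]
    intro a ha b hb
    have := h.ab _ (mem_of_cj ha) _ (mem_of_cj hb)
    calc a * b = g * ((g⁻¹ * a * g) * (g⁻¹ * b * g)) * g⁻¹ := by group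
      _ = g * ((g⁻¹ * b * g) * (g⁻¹ * a * g)) * g⁻¹ := by rw [this]
      _ = b * a := by group
  f1 := by
    obtain ⟨k, hk, hk1⟩ := h.f1
    refine ⟨g * k * g⁻¹, ?_, ?_⟩
    · rw [kq_cj]; exact conj_mem_kq g hk
    · intro e
      apply hk1
      rw [mem_centralizer_iff] at e ⊢
      intro v hv
      have := e _ (conj_mem_cj hv)
      calc v * k = g⁻¹ * ((g * v * g⁻¹) * (g * k * g⁻¹)) * g := by group
        _ = g⁻¹ * ((g * k * g⁻¹) * (g * v * g⁻¹)) * g := by rw [this]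
        _ = k * v := by group

theorem point (h : Flag T V z) {p : G} (hp : p ∈ V) (hp1 : p ≠ 1) :
    ∃ g ∈ normalizer (V : Set G), g * z * g⁻¹ = p ∧ Flag (cj g T) V p := by
  obtain ⟨g, hg, rfl⟩ := h.ln.trans p hp hp1
  refine ⟨g, hg, rfl, ?_⟩
  have := h.conj g
  rwa [cj_eq_of_mem_normalizer hg] at this

theorem sqz (h : Flag T V z) : ∀ a ∈ ws V z, a * a = 1 := ws_sq h.ln h.ab

/-! ### all points of `V` -/

section points

variable {p q : G}

theorem sq (h : Flag T V z) (hp : p ∈ V) (hp1 : p ≠ 1) : ∀ a ∈ ws V p, a * a = 1 := by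
  obtain ⟨g, -, -, hg⟩ := h.point hp hp1
  exact hg.sqz

theorem comm (h : Flag T V z) (hp : p ∈ V) (hp1 : p ≠ 1) : ∀ a ∈ ws V p, ∀ b ∈ ws V p, a * b = b * a := by
  obtain ⟨g, -, -, hg⟩ := h.point hp hp1
  exact hg.ab

theorem V_le (h : Flag T V z) (hp : p ∈ V) (hp1 : p ≠ 1) : V ≤ ws V p := by
  obtain ⟨g, -, -, hg⟩ := h.point hp hp1
  exact hg.ln.V_le_ws

theorem ws_le_centralizer_V (h : Flag T V z) (hp : p ∈ V) (hp1 : p ≠ 1) :
    ws V p ≤ centralizer (V : Set G) := by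
  intro a ha
  rw [mem_centralizer_iff]
  intro v hv
  exact h.comm hp hp1 v (h.V_le hp hp1 hv) a ha

theorem V_comm (_ : Flag T V z) {v c : G} (hv : v ∈ V) (hc : c ∈ centralizer (V : Set G)) :
    v * c = c * v := mem_centralizer_iff.mp hc v hv

theorem V_le_centralizer (h : Flag T V z) : V ≤ centralizer (V : Set G) := by
  intro v hv
  rw [mem_centralizer_iff]
  intro w hw
  exact h.ln.comm hw hv

theorem cent_le_centralizer (_ : Flag T V z) (hp : p ∈ V) :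
    centralizer (V : Set G) ≤ centralizer ({p} : Set G) := by
  intro c hc
  rw [mem_centralizer_singleton_iff]
  exact (mem_centralizer_iff.mp hc p hp).symm

/-- `C_G(V)` normalizes `W_p` -/
theorem cent_norm (h : Flag T V z) (hp : p ∈ V) :
    centralizer (V : Set G) ≤ normalizer ((ws V p : Subgroup G) : Set G) :=
  (h.cent_le_centralizer hp).trans (centralizer_le_normalizer_ws V p)

theorem mul_ne_one (h : Flag T V z) (hq : q ∈ V) (hpq : p ≠ q) : p * q ≠ 1 := fun e =>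
  hpq (by rw [mul_eq_one_iff_eq_inv.mp e, h.ln.inv_eq hq])

theorem mem_centralizer_of (h : Flag T V z) (hp : p ∈ V) (hp1 : p ≠ 1) (hq : q ∈ V) (hq1 : q ≠ 1)
    (hqp : q ≠ p) {g : G} (h1 : g * p = p * g) (h2 : g * q = q * g) :
    g ∈ centralizer (V : Set G) := by
  obtain ⟨g, -, -, hg⟩ := h.point hp hp1
  exact hg.ln.mem_centralizer_V hq hq1 hqp h1 h2

theorem exists_q (h : Flag T V z) (hp : p ∈ V) (hp1 : p ≠ 1) : ∃ q ∈ V, q ≠ 1 ∧ q ≠ p := by
  obtain ⟨g, -, -, hg⟩ := h.point hp hp1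
  exact hg.ln.exists_y

/-- elements of `K_p` act on `W_p` by multiplication with `1` or `p` -/
theorem kq_cases (h : Flag T V z) (hp : p ∈ V) {k w : G} (hk : k ∈ kq V p) (hw : w ∈ ws V p) :
    k * w * k⁻¹ = w ∨ k * w * k⁻¹ = p * w := by
  rcases (mem_zpowers_iff_of_mul_self (h.ln.sq p hp)).mp (kq_comm hk hw) with e | e
  · left
    calc k * w * k⁻¹ = (k * w * k⁻¹ * w⁻¹) * w := by group
      _ = w := by rw [e, one_mul]
  · right
    calc k * w * k⁻¹ = (k * w * k⁻¹ * w⁻¹) * w := by group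
      _ = p * w := by rw [e]

theorem kq_p (_ : Flag T V z) {k : G} (hk : k ∈ kq V p) : k * p = p * k :=
  mem_centralizer_singleton_iff.mp (kq_le_centralizer V p hk)

/-- `K_p` normalizes `V` -/
theorem kq_le_normalizer (h : Flag T V z) (hp : p ∈ V) (hp1 : p ≠ 1) :
    kq V p ≤ normalizer (V : Set G) := by
  refine le_normalizer_of_forall fun k hk v hv => ?_
  rcases h.kq_cases hp hk (h.V_le hp hp1 hv) with e | e
  · rw [e]; exact hv
  · rw [e]; exact mul_mem hp hv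

/-- (F1) at every point -/
theorem exists_mover (h : Flag T V z) (hp : p ∈ V) (hp1 : p ≠ 1) :
    ∃ k ∈ kq V p, k ∉ centralizer (V : Set G) := by
  obtain ⟨g, -, -, hg⟩ := h.point hp hp1
  exact hg.f1

/-- a mover of `K_p` moves the points `q ≠ p` to `p q` -/
theorem move (h : Flag T V z) (hp : p ∈ V) (hp1 : p ≠ 1) (hq : q ∈ V) (hq1 : q ≠ 1) (hqp : q ≠ p)
    {k : G} (hk : k ∈ kq V p) (hk1 : k ∉ centralizer (V : Set G)) : k * q * k⁻¹ = p * q := by
  rcases h.kq_cases hp hk (h.V_le hp hp1 hq) with e | e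
  · exfalso
    exact hk1 (h.mem_centralizer_of hp hp1 hq hq1 hqp (h.kq_p hk) (comm_of_conj_eq e))
  · exact e

/-- the movers of `K_p` form one coset of `K_p ∩ C_G(V)` -/
theorem mover_coset (h : Flag T V z) (hp : p ∈ V) (hp1 : p ≠ 1) {k k' : G} (hk : k ∈ kq V p)
    (hk1 : k ∉ centralizer (V : Set G)) (hk' : k' ∈ kq V p) (hk1' : k' ∉ centralizer (V : Set G)) :
    k' * k⁻¹ ∈ centralizer (V : Set G) := by
  obtain ⟨q, hq, hq1, hqp⟩ := h.exists_q hp hp1
  refine h.mem_centralizer_of hp hp1 (mul_mem hp hq) (h.mul_ne_one hq (Ne.symm hqp)) ?_ ?_ ?_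
  · intro e'
    exact hq1 (by simpa using e')
  · exact mul_comm_of (h.kq_p hk') (inv_comm_of (h.kq_p hk))
  · refine comm_of_conj_eq ?_
    have e1 := h.move hp hp1 hq hq1 hqp hk hk1
    have e2 := h.move hp hp1 hq hq1 hqp hk' hk1'
    calc k' * k⁻¹ * (p * q) * (k' * k⁻¹)⁻¹ = k' * (k⁻¹ * (p * q) * k) * k'⁻¹ := by group
      _ = k' * (k⁻¹ * (k * q * k⁻¹) * k) * k'⁻¹ := by rw [e1]
      _ = k' * q * k'⁻¹ := by group
      _ = p * q := e2

end points

end Flag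

namespace Flag

variable {T V : Subgroup G} {z : G}

theorem V_le_ii (h : Flag T V z) : V ≤ ii V := fun _ hv _ hp hp1 => h.V_le hp hp1 hv

theorem ii_le_centralizer (h : Flag T V z) : ii V ≤ centralizer (V : Set G) :=
  (ii_le h.ln.z_mem h.ln.z_ne).trans (h.ws_le_centralizer_V h.ln.z_mem h.ln.z_ne)

/-- `ii V` is the intersection of any two of the `W_p`. -/
theorem mem_ii (h : Flag T V z) {p q u : G} (hp : p ∈ V) (hp1 : p ≠ 1) (hq : q ∈ V) (hq1 : q ≠ 1)
    (hqp : q ≠ p) (h1 : u ∈ ws V p) (h2 : u ∈ ws V q) : u ∈ ii V := by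
  intro r hr hr1
  obtain ⟨g, -, -, hg⟩ := h.point hp hp1
  rcases hg.ln.four hp hq hp1 hq1 (Ne.symm hqp) hr with e | e | e | e
  · exact absurd e hr1
  · rw [e]; exact h1
  · rw [e]; exact h2
  · obtain ⟨k, hk, hk1⟩ := h.exists_mover hp hp1
    have e1 := h.move hp hp1 hq hq1 hqp hk hk1
    have h3 := conj_mem_ws k h2
    rw [e1, ← e] at h3
    rcases h.kq_cases hp hk h1 with e2 | e2
    · rwa [e2] at h3
    · rw [e2] at h3
      have h4 := mul_mem (h.V_le hr hr1 hp) h3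
      rwa [← mul_assoc, h.ln.sq p hp, one_mul] at h4

/-- the fixed points of all `K_p` on `ii V` are trivial -/
theorem fix_triv [Finite G] (h : Flag T V z) {u : G} (hu : u ∈ ii V)
    (hf : ∀ p ∈ V, p ≠ 1 → ∀ k ∈ kq V p, k * u = u * k) : u = 1 := by
  let D : Subgroup G :=
    { carrier := {d | d ∈ ii V ∧ ∀ p ∈ V, p ≠ 1 → ∀ k ∈ kq V p, k * d = d * k}
      mul_mem' := by
        rintro a b ⟨ha, ha1⟩ ⟨hb, hb1⟩
        exact ⟨mul_mem ha hb, fun p hp hp1 k hk => comm_mul_of (ha1 p hp hp1 k hk) (hb1 p hp hp1 k hk)⟩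
      one_mem' := ⟨one_mem _, fun p hp hp1 k hk => by simp⟩
      inv_mem' := by
        rintro a ⟨ha, ha1⟩
        exact ⟨inv_mem ha, fun p hp hp1 k hk => comm_inv_of (ha1 p hp hp1 k hk)⟩ }
  have hDn : D ≤ normalizer (V : Set G) := fun d hd =>
    centralizer_le_normalizer _ (h.ii_le_centralizer hd.1)
  have hN : normalizer (V : Set G) ≤ normalizer (D : Set G) := by
    refine le_normalizer_of_forall fun g hg d hd => ?_
    refine ⟨conj_mem_of_normalizer (normalizer_le_normalizer_ii V) hg hd.1, fun p hp hp1 k hk => ?_⟩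
    have hp' : g⁻¹ * p * g ∈ V := (mem_normalizer_iff''.mp hg p).mp hp
    have hp1' : g⁻¹ * p * g ≠ 1 := fun e => hp1 (by
      have : p = g * (g⁻¹ * p * g) * g⁻¹ := by group
      rw [this, e]; group)
    have hk' : g⁻¹ * k * g ∈ kq V (g⁻¹ * p * g) := by
      have := conj_mem_kq g⁻¹ hk
      rwa [inv_inv] at this
    have := hd.2 _ hp' hp1' _ hk'
    calc k * (g * d * g⁻¹) = g * ((g⁻¹ * k * g) * d) * g⁻¹ := by group
      _ = g * (d * (g⁻¹ * k * g)) * g⁻¹ := by rw [this]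
      _ = g * d * g⁻¹ * k := by group
  have hD : D = ⊥ := by
    by_contra hne
    have hz := h.ln.z_mem_of_normal hDn hN hne
    obtain ⟨y, hy, hy1, hyz⟩ := h.ln.exists_y
    obtain ⟨k, hk, hk1⟩ := h.exists_mover hy hy1
    have e1 := h.move hy hy1 h.ln.z_mem h.ln.z_ne (Ne.symm hyz) hk hk1
    have e2 := hz.2 y hy hy1 k hk
    rw [conj_eq_of_comm e2] at e1
    exact hy1 (by simpa using e1.symm)
  have : u ∈ D := ⟨hu, hf⟩
  rw [hD] at this
  exact mem_bot.mp this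

/-- (FU), for some point -/
theorem fu_aux [Finite G] (h : Flag T V z) {u : G} (hu : u ∈ ii V) (huV : u ∉ V) :
    ∃ p ∈ V, p ≠ 1 ∧ ∃ k ∈ kq V p, k ∈ centralizer (V : Set G) ∧ k * u * k⁻¹ = p * u := by
  by_contra hcon
  push Not at hcon
  have hcent : ∀ p ∈ V, p ≠ 1 → ∀ k ∈ kq V p, k ∈ centralizer (V : Set G) → k * u = u * k := by
    intro p hp hp1 k hk hkV
    rcases h.kq_cases hp hk (hu p hp hp1) with e | e
    · exact comm_of_conj_eq e
    · exact absurd e (hcon p hp hp1 k hk hkV)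
  have hz := h.ln.z_mem
  have hz1 := h.ln.z_ne
  have hzz := h.ln.zz
  obtain ⟨y, hy, hy1, hyz⟩ := h.ln.exists_y
  have hyy := h.ln.sq y hy
  obtain ⟨s, hs, hs1⟩ := h.exists_mover hz hz1
  obtain ⟨t, ht, ht1⟩ := h.exists_mover hy hy1
  have hzy := h.ln.comm hz hy
  have hsy := h.move hz hz1 hy hy1 hyz hs hs1
  have htz := h.move hy hy1 hz hz1 (Ne.symm hyz) ht ht1
  have hsz : s * z * s⁻¹ = z := conj_eq_of_comm (h.kq_p hs)
  have hty : t * y * t⁻¹ = y := conj_eq_of_comm (h.kq_p ht)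
  have huc := h.ii_le_centralizer hu
  have huz := h.V_comm hz huc
  have huy := h.V_comm hy huc
  -- a point of `u V` fixed by `s` and `t`
  obtain ⟨v, hv, hsv, htv⟩ : ∃ v ∈ V, s * (v * u) * s⁻¹ = v * u ∧ t * (v * u) * t⁻¹ = v * u := by
    have es : ∀ v, s * (v * u) * s⁻¹ = (s * v * s⁻¹) * (s * u * s⁻¹) := fun v => by group
    have et : ∀ v, t * (v * u) * t⁻¹ = (t * v * t⁻¹) * (t * u * t⁻¹) := fun v => by group
    rcases h.kq_cases hz hs (hu z hz hz1) with e1 | e1 <;>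
      rcases h.kq_cases hy ht (hu y hy hy1) with e2 | e2
    · exact ⟨1, one_mem _, by simpa using e1, by simpa using e2⟩
    · -- `v = z`
      refine ⟨z, hz, ?_, ?_⟩
      · rw [es, hsz, e1]
      · rw [et, htz, e2]
        calc y * z * (y * u) = y * (z * y) * u := by group
          _ = (y * y) * (z * u) := by rw [hzy]; group
          _ = z * u := by rw [hyy, one_mul]
    · refine ⟨y, hy, ?_, ?_⟩
      · rw [es, hsy, e1]
        calc z * y * (z * u) = z * (y * z) * u := by group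
          _ = (z * z) * (y * u) := by rw [← hzy]; group
          _ = y * u := by rw [hzz, one_mul]
      · rw [et, hty, e2]
    · refine ⟨y * z, mul_mem hy hz, ?_, ?_⟩
      · have : s * (y * z) * s⁻¹ = (s * y * s⁻¹) * (s * z * s⁻¹) := by group
        rw [es, this, hsy, hsz, e1]
        calc z * y * z * (z * u) = z * y * (z * z) * u := by group
          _ = z * y * u := by rw [hzz, mul_one]
          _ = y * z * u := by rw [hzy]
      · have : t * (y * z) * t⁻¹ = (t * y * t⁻¹) * (t * z * t⁻¹) := by group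
        rw [et, this, hty, htz, e2]
        calc y * (y * z) * (y * u) = (y * y) * (z * y) * u := by group
          _ = (z * y) * u := by rw [hyy, one_mul]
          _ = y * z * u := by rw [hzy]
  set a := v * u with ha
  have hai : a ∈ ii V := mul_mem (h.V_le_ii hv) hu
  have hacent : ∀ p ∈ V, p ≠ 1 → ∀ k ∈ kq V p, k ∈ centralizer (V : Set G) → k * a = a * k :=
    fun p hp hp1 k hk hkV => comm_mul_of (h.V_comm hv hkV).symm (hcent p hp hp1 k hk hkV)
  -- one mover which fixes `a` is enough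
  have hone : ∀ p ∈ V, p ≠ 1 → ∀ m ∈ kq V p, m ∉ centralizer (V : Set G) → m * a = a * m →
      ∀ k ∈ kq V p, k * a = a * k := by
    intro p hp hp1 m hm hm1 hma k hk
    by_cases hk1 : k ∈ centralizer (V : Set G)
    · exact hacent p hp hp1 k hk hk1
    · have h1 := hacent p hp hp1 _ (mul_mem hk (inv_mem hm)) (h.mover_coset hp hp1 hm hm1 hk hk1)
      have h2 := mul_comm_of h1 hma
      simpa using h2
  have ha1 : a = 1 := by
    refine h.fix_triv hai fun p hp hp1 => ?_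
    rcases h.ln.four hz hy hz1 hy1 (Ne.symm hyz) hp with e | e | e | e
    · exact absurd e hp1
    · subst e; exact hone _ hz hz1 s hs hs1 (comm_of_conj_eq hsv)
    · subst e; exact hone _ hy hy1 t ht ht1 (comm_of_conj_eq htv)
    · have hm := conj_mem_kq s ht
      rw [hsy, ← e] at hm
      refine hone p hp hp1 (s * t * s⁻¹) hm ?_ ?_
      · intro hc
        apply ht1
        have := conj_mem_of_normalizer' (normalizer_le_normalizer_centralizer V)
          (h.kq_le_normalizer hz hz1 hs) hc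
        have e' : s⁻¹ * (s * t * s⁻¹) * s = t := by group
        rwa [e'] at this
      · have h1 := comm_of_conj_eq hsv
        have h2 := comm_of_conj_eq htv
        exact mul_comm_of (mul_comm_of h1 h2) (inv_comm_of h1)
  apply huV
  have : u = v⁻¹ * a := by rw [ha]; group
  rw [this, ha1, mul_one]
  exact inv_mem hv

/-- (FU): for `u ∈ I - V` and every point `p` some element of `K_p ∩ C_G(V)` moves `u` to `p u`. -/
theorem fu [Finite G] (h : Flag T V z) {u : G} (hu : u ∈ ii V) (huV : u ∉ V) {p : G} (hp : p ∈ V)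
    (hp1 : p ≠ 1) : ∃ k ∈ kq V p, k ∈ centralizer (V : Set G) ∧ k * u * k⁻¹ = p * u := by
  obtain ⟨q, hq, hq1, k, hk, hkV, hku⟩ := h.fu_aux hu huV
  by_cases hpq : p = q
  · subst hpq; exact ⟨k, hk, hkV, hku⟩
  have hw : p * q ∈ V := mul_mem hp hq
  have hw1 : p * q ≠ 1 := h.mul_ne_one hq hpq
  have hqw : q ≠ p * q := fun e => hp1 (by simpa using e.symm)
  obtain ⟨t, ht, ht1⟩ := h.exists_mover hw hw1
  have e1 := h.move hw hw1 hq hq1 hqw ht ht1
  have e2 : p * q * q = p := by rw [mul_assoc, h.ln.sq q hq, mul_one]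
  rw [e2] at e1
  have htn := h.kq_le_normalizer hw hw1 ht
  refine ⟨t * k * t⁻¹, ?_, conj_mem_of_normalizer (normalizer_le_normalizer_centralizer V) htn hkV, ?_⟩
  · have := conj_mem_kq t hk
    rwa [e1] at this
  · have htw : t * (p * q) * t⁻¹ = p * q := conj_eq_of_comm (h.kq_p ht)
    have huc := h.ii_le_centralizer hu
    have hkw : k * (p * q) * k⁻¹ = p * q := conj_eq_of_comm (h.V_comm hw hkV).symm
    rcases h.kq_cases hw ht (hu _ hw hw1) with e3 | e3
    · have e4 : t⁻¹ * u * t = u := by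
        calc t⁻¹ * u * t = t⁻¹ * (t * u * t⁻¹) * t := by rw [e3]
          _ = u := by group
      calc t * k * t⁻¹ * u * (t * k * t⁻¹)⁻¹ = t * (k * (t⁻¹ * u * t) * k⁻¹) * t⁻¹ := by group
        _ = t * (q * u) * t⁻¹ := by rw [e4, hku]
        _ = (t * q * t⁻¹) * (t * u * t⁻¹) := by group
        _ = p * u := by rw [e1, e3]
    · have e4 : t⁻¹ * u * t = p * q * u := by
        have h5 : t * (p * q * u) * t⁻¹ = u := by
          calc t * (p * q * u) * t⁻¹ = (t * (p * q) * t⁻¹) * (t * u * t⁻¹) := by group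
            _ = (p * q) * (p * q) * u := by rw [htw, e3]; group
            _ = u := by rw [h.ln.sq _ hw, one_mul]
        calc t⁻¹ * u * t = t⁻¹ * (t * (p * q * u) * t⁻¹) * t := by rw [h5]
          _ = p * q * u := by group
      calc t * k * t⁻¹ * u * (t * k * t⁻¹)⁻¹ = t * (k * (t⁻¹ * u * t) * k⁻¹) * t⁻¹ := by group
        _ = t * ((k * (p * q) * k⁻¹) * (k * u * k⁻¹)) * t⁻¹ := by rw [e4]; group
        _ = t * (p * q * (q * u)) * t⁻¹ := by rw [hkw, hku]
        _ = (t * (p * q) * t⁻¹) * (t * q * t⁻¹) * (t * u * t⁻¹) := by group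
        _ = (p * q) * p * (p * q * u) := by rw [htw, e1, e3]
        _ = (p * q) * (p * p) * (q * u) := by group
        _ = p * (q * q) * u := by rw [h.ln.sq p hp, mul_one]; group
        _ = p * u := by rw [h.ln.sq q hq, mul_one]

/-- (F2): for `u ∈ I - V` the group `N_G(V) ∩ C_G(u)` is transitive on the points of `V`. -/
theorem ftwo [Finite G] (h : Flag T V z) {u : G} (hu : u ∈ ii V) (huV : u ∉ V) {p q : G} (hp : p ∈ V)
    (hp1 : p ≠ 1) (hq : q ∈ V) (hq1 : q ≠ 1) :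
    ∃ g ∈ normalizer (V : Set G), g * u = u * g ∧ g * p * g⁻¹ = q := by
  by_cases hpq : p = q
  · subst hpq
    exact ⟨1, one_mem _, by simp, by simp⟩
  have hw : q * p ∈ V := mul_mem hq hp
  have hw1 : q * p ≠ 1 := h.mul_ne_one hp (Ne.symm hpq)
  have hpw : p ≠ q * p := fun e => hq1 (by simpa using e.symm)
  obtain ⟨t, ht, ht1⟩ := h.exists_mover hw hw1
  have e1 := h.move hw hw1 hp hp1 hpw ht ht1
  have e2 : q * p * p = q := by rw [mul_assoc, h.ln.sq p hp, mul_one]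
  rw [e2] at e1
  have htn := h.kq_le_normalizer hw hw1 ht
  rcases h.kq_cases hw ht (hu _ hw hw1) with e3 | e3
  · exact ⟨t, htn, comm_of_conj_eq e3, e1⟩
  · obtain ⟨k, hk, hkV, hku⟩ := h.fu hu huV hw hw1
    refine ⟨k * t, mul_mem (h.kq_le_normalizer hw hw1 hk) htn, comm_of_conj_eq ?_, ?_⟩
    · have hkw : k * (q * p) * k⁻¹ = q * p := conj_eq_of_comm (h.V_comm hw hkV).symm
      calc k * t * u * (k * t)⁻¹ = k * (t * u * t⁻¹) * k⁻¹ := by group
        _ = (k * (q * p) * k⁻¹) * (k * u * k⁻¹) := by rw [e3]; group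
        _ = (q * p) * (q * p) * u := by rw [hkw, hku]; group
        _ = u := by rw [h.ln.sq _ hw, one_mul]
    · calc k * t * p * (k * t)⁻¹ = k * (t * p * t⁻¹) * k⁻¹ := by group
        _ = k * q * k⁻¹ := by rw [e1]
        _ = q := conj_eq_of_comm (h.V_comm hq hkV).symm

end Flag


namespace Flag

variable {T V : Subgroup G} {z : G}

/-! ### the duality at the points -/

/-- `K_p` acts on `W_p` by multiplication with `1` or `p` -/
theorem dw (h : Flag T V z) {p : G} (hp : p ∈ V) (hp1 : p ≠ 1) : DW p (ws V p) (kq V p) where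
  q_mem := h.V_le hp hp1 hp
  comm := h.comm hp hp1
  sq := h.sq hp hp1
  cent := fun _ hk => h.kq_p hk
  act := fun _ hk _ hw => h.kq_cases hp hk hw

/-- the same for all points of the geometry -/
theorem dw_conj (h : Flag T V z) (g : G) :
    DW (g * z * g⁻¹) (ws V (g * z * g⁻¹)) (kq V (g * z * g⁻¹)) := by
  have h1 := (h.conj g).dw (h.conj g).ln.z_mem (h.conj g).ln.z_ne
  rwa [ws_cj, kq_cj] at h1

/-- `N_p ∩ V = ⟨p⟩` -/
theorem nn_inf_V (h : Flag T V z) {p u : G} (hp : p ∈ V) (hp1 : p ≠ 1) (hu : u ∈ V)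
    (hun : u ∈ nn (ws V p) (kq V p)) : u = 1 ∨ u = p := by
  by_contra hcon
  push Not at hcon
  obtain ⟨k, hk, hk1⟩ := h.exists_mover hp hp1
  have e1 := h.move hp hp1 hu hcon.1 hcon.2 hk hk1
  have e2 := (mem_nn.1 hun).2 k hk
  rw [conj_eq_of_comm e2] at e1
  exact hp1 (by simpa using e1.symm)

/-- **(D1)** `N_p ∩ I = ⟨p⟩` -/
theorem nn_ii [Finite G] (h : Flag T V z) {p u : G} (hp : p ∈ V) (hp1 : p ≠ 1) (hu : u ∈ ii V)
    (hun : u ∈ nn (ws V p) (kq V p)) : u = 1 ∨ u = p := by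
  by_cases huV : u ∈ V
  · exact h.nn_inf_V hp hp1 huV hun
  · obtain ⟨k, hk, -, e⟩ := h.fu hu huV hp hp1
    have e2 := (mem_nn.1 hun).2 k hk
    rw [conj_eq_of_comm e2] at e
    exact absurd (by simpa using e.symm) hp1

/-- **(D1)** `N_p ∩ W_q = ⟨p⟩` for `p ≠ q` on a line -/
theorem nn_inf [Finite G] (h : Flag T V z) {p q : G} (hp : p ∈ V) (hp1 : p ≠ 1) (hq : q ∈ V) (hq1 : q ≠ 1)
    (hqp : q ≠ p) : nn (ws V p) (kq V p) ⊓ ws V q = zpowers p := by
  apply le_antisymm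
  · intro u hu
    obtain ⟨hu1, hu2⟩ := mem_inf.1 hu
    have hui : u ∈ ii V := h.mem_ii hp hp1 hq hq1 hqp (mem_nn.1 hu1).1 hu2
    rcases h.nn_ii hp hp1 hui hu1 with e | e
    · rw [e]; exact one_mem _
    · rw [e]; exact mem_zpowers _
  · rw [zpowers_le]
    exact mem_inf.2 ⟨(h.dw hp hp1).q_mem_nn, h.V_le hq hq1 hp⟩

theorem nn_inf_ii [Finite G] (h : Flag T V z) {p : G} (hp : p ∈ V) (hp1 : p ≠ 1) :
    nn (ws V p) (kq V p) ⊓ ii V = zpowers p := by
  obtain ⟨q, hq, hq1, hqp⟩ := h.exists_q hp hp1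
  apply le_antisymm
  · rw [← h.nn_inf hp hp1 hq hq1 hqp]
    exact inf_le_inf_left _ (ii_le hq hq1)
  · rw [zpowers_le]
    exact mem_inf.2 ⟨(h.dw hp hp1).q_mem_nn, h.V_le_ii hp⟩

/-- **(D1)** `|N_p| ≤ 2 |W_p : I|` -/
theorem card_nn [Finite G] (h : Flag T V z) {p : G} (hp : p ∈ V) (hp1 : p ≠ 1) :
    Nat.card (nn (ws V p) (kq V p)) ≤ 2 * (ii V).relIndex (ws V p) := by
  set N := nn (ws V p) (kq V p) with hN
  have h1 : (N ⊓ ii V).relIndex N ≤ (ii V).relIndex (ws V p) := by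
    have h2 : (ii V ⊓ N).relIndex N = (ii V).relIndex N := inf_relIndex_right _ _
    rw [inf_comm, h2]
    have h3 : (ii V).relIndex (ws V p) ≠ 0 := by
      have : ((ii V).subgroupOf (ws V p)).FiniteIndex := inferInstance
      exact this.index_ne_zero
    exact relIndex_le_of_le_right inf_le_left h3
  have h4 := card_mul_relIndex_of_le (H := N ⊓ ii V) (K := N) inf_le_left
  have h5 : Nat.card (N ⊓ ii V : Subgroup G) ≤ 2 := by
    rw [hN, h.nn_inf_ii hp hp1, Nat.card_zpowers]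
    have h6 : p ^ 2 = 1 := by rw [pow_two]; exact h.ln.sq p hp
    exact orderOf_le_of_pow_eq_one (by norm_num) h6
  calc Nat.card N = Nat.card (N ⊓ ii V : Subgroup G) * (N ⊓ ii V).relIndex N := h4.symm
    _ ≤ 2 * (ii V).relIndex (ws V p) := Nat.mul_le_mul h5 h1

/-! ### (D6) -/

/-- **(D6)** `V ≤ U ≤ I`, `w ∈ I - U`: some element of `K_p ∩ C(V)` centralises `U` and moves `w` to `p w`. -/
theorem exists_transv [Finite G] (h : Flag T V z) {p : G} (hp : p ∈ V) (hp1 : p ≠ 1) {U : Subgroup G}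
    (hVU : V ≤ U) (hU : U ≤ ii V) {w : G} (hw : w ∈ ii V) (hwU : w ∉ U) :
    ∃ k ∈ kq V p, k ∈ centralizer (V : Set G) ∧ (∀ u ∈ U, k * u = u * k) ∧ k * w * k⁻¹ = p * w := by
  have hDW := h.dw hp hp1
  have hUW : U ≤ ws V p := hU.trans (ii_le hp hp1)
  obtain ⟨k, hk, hkU, hkw⟩ := hDW.exists_mover hUW (ii_le hp hp1 hw) (fun hmem => hwU (by
    obtain ⟨u, hu, n, hn, rfl⟩ := mem_sup_of_comm hDW.comm hUW (inf_le_left : nn (ws V p) (kq V p) ≤ _) hmem
    have hni : n ∈ ii V := by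
      have : n = u⁻¹ * (u * n) := by group
      rw [this]
      exact mul_mem (inv_mem (hU hu)) hw
    rcases h.nn_ii hp hp1 hni hn with e | e
    · rw [e, mul_one]; exact hu
    · rw [e]; exact mul_mem hu (hVU hp)))
  refine ⟨k, hk, ?_, hkU, hkw⟩
  rw [mem_centralizer_iff]
  exact fun v hv => (hkU v (hVU hv)).symm

/-- (D6), with the axis: for `U` of index 2 in `I`, `V ≤ U`, the centraliser of the element in `I` is `U`. -/
theorem exists_transv_eq [Finite G] (h : Flag T V z) {p : G} (hp : p ∈ V) (hp1 : p ≠ 1) {U : Subgroup G}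
    (hVU : V ≤ U) (hU : U ≤ ii V) (h2 : U.relIndex (ii V) = 2) :
    ∃ k ∈ kq V p, k ∈ centralizer (V : Set G) ∧ ∀ w ∈ ii V, (k * w = w * k ↔ w ∈ U) ∧
      (w ∉ U → k * w * k⁻¹ = p * w) := by
  obtain ⟨w₀, hw₀, hw₀U⟩ : ∃ w ∈ ii V, w ∉ U := by
    by_contra hcon
    push Not at hcon
    rw [relIndex_eq_one.2 hcon] at h2
    norm_num at h2
  obtain ⟨k, hk, hkV, hkU, hkw⟩ := h.exists_transv hp hp1 hVU hU hw₀ hw₀U
  have key : ∀ w ∈ ii V, w ∉ U → k * w * k⁻¹ = p * w := by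
    intro w hw hwU
    have h3 := Subgroup.relIndex_eq_two_iff.1 h2
    obtain ⟨a, ha, hx⟩ := h3
    have haU : a ∉ U := by
      rcases hx 1 (one_mem _) with ⟨h4, h5⟩ | ⟨h4, h5⟩
      · exact absurd (one_mem U) h5
      · rwa [one_mul] at h5
    have hmul : ∀ v ∈ ii V, v ∉ U → v * a ∈ U := by
      intro v hv hvU
      rcases hx v hv with ⟨h4, -⟩ | ⟨h4, -⟩
      · exact h4
      · exact absurd h4 hvU
    have h5 : w * w₀⁻¹ ∈ U := by
      have : w * w₀⁻¹ = (w * a) * (w₀ * a)⁻¹ := by group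
      rw [this]
      exact mul_mem (hmul w hw hwU) (inv_mem (hmul w₀ hw₀ hw₀U))
    have h6 := conj_eq_of_comm (hkU _ h5)
    have h7 := h.comm hp hp1 p (h.V_le hp hp1 hp) (w * w₀⁻¹) (ii_le hp hp1 (hU h5))
    calc k * w * k⁻¹ = (k * (w * w₀⁻¹) * k⁻¹) * (k * w₀ * k⁻¹) := by group
      _ = (w * w₀⁻¹) * (p * w₀) := by rw [h6, hkw]
      _ = (w * w₀⁻¹ * p) * w₀ := by group
      _ = (p * (w * w₀⁻¹)) * w₀ := by rw [h7]
      _ = p * w := by group
  refine ⟨k, hk, hkV, fun w hw => ⟨⟨fun e => ?_, fun hwU => hkU w hwU⟩, key w hw⟩⟩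
  by_contra hwU
  have e1 := key w hw hwU
  rw [conj_eq_of_comm e] at e1
  exact hp1 (by simpa using e1.symm)

/-! ### (D2), (D3) -/

theorem le_normalizer_ws' {V : Subgroup G} {q u : G} (hu : u * q = q * u) :
    (∀ w ∈ ws V q, u * w * u⁻¹ ∈ ws V q) ∧ ∀ k ∈ kq V q, u * k * u⁻¹ ∈ kq V q := by
  have hu' : u ∈ centralizer ({q} : Set G) := mem_centralizer_singleton_iff.2 hu
  exact ⟨fun w hw => (mem_normalizer_iff.1 (centralizer_le_normalizer_ws V q hu') w).1 hw,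
    fun k hk => (mem_normalizer_iff.1 (centralizer_le_normalizer_kq V q hu') k).1 hk⟩

/-- The hypotheses of (D2) for `X ≤ C(q)` and `p ∈ W_q`, `X` normalised by `C_{K_q}(p)`. -/
theorem nrm {V X : Subgroup G} {p q : G} (hp : p ∈ ws V q) (hX : ∀ u ∈ X, u * q = q * u)
    (hn : ∀ k ∈ kq V q, k * p = p * k → ∀ u ∈ X, k * u * k⁻¹ ∈ X) : DW.Nrm q p (ws V q) (kq V q) X where
  p_mem := hp
  cent := hX
  W_norm := fun u hu w hw => (le_normalizer_ws' (hX u hu)).1 w hw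
  K_norm := fun u hu k hk => (le_normalizer_ws' (hX u hu)).2 k hk
  norm := hn

/-- the case `X = W_p` -/
theorem nrm_ws {V : Subgroup G} {p q : G} (hp : p ∈ ws V q) (hX : ∀ u ∈ ws V p, u * q = q * u) :
    DW.Nrm q p (ws V q) (kq V q) (ws V p) :=
  nrm hp hX fun _ _ hkp u hu => (le_normalizer_ws' hkp).1 u hu

/-- **(D3)**, all conjugates: `q = z^g`, `p ∈ W_q`, `W_p ≤ C(q)`, `W_p ∩ K_q` centralises `W_q`:
`[W_q, W_p] ≤ ⟨p⟩ N_q`. -/
theorem comm_mem (h : Flag T V z) {g p q : G} (hq : q = g * z * g⁻¹) (hp : p ∈ ws V q)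
    (hX : ∀ u ∈ ws V p, u * q = q * u) (hc : ∀ e ∈ ws V p, e ∈ kq V q → ∀ w ∈ ws V q, e * w = w * e)
    {w u : G} (hw : w ∈ ws V q) (hu : u ∈ ws V p) :
    u * w * u⁻¹ * w⁻¹ ∈ zpowers p ⊔ nn (ws V q) (kq V q) := by
  subst hq
  exact (h.dw_conj g).comm_mem (nrm_ws hp hX) hw (fun e he => hc e (mem_inf.1 he).1 (mem_inf.1 he).2 w hw) hu

/-- (D3) for `q ∉ W_p` -/
theorem comm_mem' (h : Flag T V z) {g p q : G} (hq : q = g * z * g⁻¹) (hp : p ∈ ws V q)
    (hX : ∀ u ∈ ws V p, u * q = q * u) (hpq : ∀ w ∈ ws V q, w * p = p * w) (hqp : q ∉ ws V p)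
    {w u : G} (hw : w ∈ ws V q) (hu : u ∈ ws V p) :
    u * w * u⁻¹ * w⁻¹ ∈ zpowers p ⊔ nn (ws V q) (kq V q) := by
  subst hq
  exact (h.dw_conj g).comm_mem' (nrm_ws hp hX) (fun w hw u hu => (le_normalizer_ws' (hpq w hw)).1 u hu) hqp hw hu

/-! ### (D4), (D5): claim A (a) -/

/-- `N_q ∩ I_l ≤ ⟨q⟩` for the line `l = V^g` on the point `q = z^g` -/
theorem ii_inf_nn_conj [Finite G] (h : Flag T V z) (g : G) :
    ii (cj g V) ⊓ nn (ws V (g * z * g⁻¹)) (kq V (g * z * g⁻¹)) ≤ zpowers (g * z * g⁻¹) := by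
  have h1 := (h.conj g).nn_inf_ii (h.conj g).ln.z_mem (h.conj g).ln.z_ne
  rw [ws_cj, kq_cj] at h1
  rw [inf_comm]
  exact h1.le

/-- `I_l ≤ W_q` for the line `l = V^g` on the point `q = z^g` -/
theorem ii_le_ws_conj (h : Flag T V z) (g : G) : ii (cj g V) ≤ ws V (g * z * g⁻¹) := by
  have h1 := ii_le (V := cj g V) (h.conj g).ln.z_mem (h.conj g).ln.z_ne
  rwa [ws_cj] at h1

/-- **(D4)**, general form: `q = z^g`, `l = V^g` a line on `q`, `I = ii (V^g)`; `b ∈ W_q` centralises `X ∩ K_q`,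
`A ≤ X`, `F ≤ [A, b]`, `q ∉ F`, `2 |W_q : I| ≤ |F|`, `A` centralises `F` and `I`: then `A` centralises `b`. -/
theorem count [Finite G] (h : Flag T V z) {g p q b : G} (hq : q = g * z * g⁻¹) {X A F : Subgroup G}
    (hX : DW.Nrm q p (ws V q) (kq V q) X) (hb : b ∈ ws V q) (hbc : ∀ e ∈ X, e ∈ kq V q → e * b = b * e)
    (hAX : A ≤ X) (hF : ∀ f ∈ F, ∃ a ∈ A, f = a * b * a⁻¹ * b⁻¹) (hqF : q ∉ F)
    (hcard : 2 * (ii (cj g V)).relIndex (ws V q) ≤ Nat.card F)
    (hAF : ∀ a ∈ A, ∀ f ∈ F, a * f = f * a) (hAI : ∀ a ∈ A, ∀ f ∈ ii (cj g V), a * f = f * a)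
    {x : G} (hx : x ∈ A) : x * b = b * x := by
  subst hq
  exact (h.dw_conj g).count hX hb (fun e he => hbc e (mem_inf.1 he).1 (mem_inf.1 he).2) hAX hF hqF
    (h.ii_le_ws_conj g) (h.ii_inf_nn_conj g) hcard hAF hAI hx

/-- **(D4)** the case `q ∉ X`, `W_q ≤ N(X)` -/
theorem count' [Finite G] (h : Flag T V z) {g p q b : G} (hq : q = g * z * g⁻¹) {X A F : Subgroup G}
    (hX : DW.Nrm q p (ws V q) (kq V q) X) (hWX : ∀ w ∈ ws V q, ∀ u ∈ X, w * u * w⁻¹ ∈ X) (hqX : q ∉ X)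
    (hb : b ∈ ws V q) (hAX : A ≤ X) (hF : ∀ f ∈ F, ∃ a ∈ A, f = a * b * a⁻¹ * b⁻¹)
    (hcard : 2 * (ii (cj g V)).relIndex (ws V q) ≤ Nat.card F)
    (hAF : ∀ a ∈ A, ∀ f ∈ F, a * f = f * a) (hAI : ∀ a ∈ A, ∀ f ∈ ii (cj g V), a * f = f * a)
    {x : G} (hx : x ∈ A) : x * b = b * x := by
  subst hq
  exact (h.dw_conj g).count' hX hWX hqX hb hAX hF (h.ii_le_ws_conj g) (h.ii_inf_nn_conj g) hcard hAF hAI hx

/-- **(D4) + (D5)**: claim A (a). `x ∈ A ≤ X` does not centralise `b ∈ W_q`; for every `c ∈ C_{W_q}(x)` the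
commutators `[A, c b]` contain a group `F` centralised by `A`, `q ∉ F`, `2 |W_q : I| ≤ |F|`. Then some
`e ∈ X ∩ K_q` centralises `C_{W_q}(x)` and moves `b` to `q b`. -/
theorem exists_e [Finite G] (h : Flag T V z) {g p q b x : G} (hq : q = g * z * g⁻¹) {X A : Subgroup G}
    (hX : DW.Nrm q p (ws V q) (kq V q) X) (hb : b ∈ ws V q) (hAX : A ≤ X) (hx : x ∈ A) (hxb : x * b ≠ b * x)
    (hF : ∀ c ∈ ws V q, x * c = c * x → ∃ F : Subgroup G,
      (∀ f ∈ F, ∃ a ∈ A, f = a * (c * b) * a⁻¹ * (c * b)⁻¹) ∧ q ∉ F ∧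
      2 * (ii (cj g V)).relIndex (ws V q) ≤ Nat.card F ∧ ∀ a ∈ A, ∀ f ∈ F, a * f = f * a)
    (hAI : ∀ a ∈ A, ∀ f ∈ ii (cj g V), a * f = f * a) :
    ∃ e ∈ X, e ∈ kq V q ∧ (∀ c ∈ ws V q, x * c = c * x → e * c = c * e) ∧ e * b * e⁻¹ = q * b := by
  have hDW : DW q (ws V q) (kq V q) := by subst hq; exact h.dw_conj g
  let C : Subgroup G := ws V q ⊓ centralizer ({x} : Set G)
  obtain ⟨e, he, heC, heb⟩ := hDW.exists_e (C := C) (E := X ⊓ kq V q) inf_le_left inf_le_right hb (by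
    intro c hc
    obtain ⟨hcW, hcx⟩ := mem_inf.1 hc
    rw [mem_centralizer_singleton_iff] at hcx
    by_contra hcon
    push Not at hcon
    obtain ⟨F, hF1, hF2, hF3, hF4⟩ := hF c hcW hcx.symm
    have h1 := h.count hq hX (mul_mem hcW hb) (fun e he1 he2 => hcon e (mem_inf.2 ⟨he1, he2⟩)) hAX hF1 hF2 hF3
      hF4 hAI hx
    apply hxb
    calc x * b = c⁻¹ * (c * x) * b := by group
      _ = c⁻¹ * (x * (c * b)) := by rw [hcx]; group
      _ = c⁻¹ * (c * b * x) := by rw [h1]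
      _ = b * x := by group)
  obtain ⟨he1, he2⟩ := mem_inf.1 he
  exact ⟨e, he1, he2, fun c hc hcx => heC c (mem_inf.2 ⟨hc, mem_centralizer_singleton_iff.2 hcx.symm⟩), heb⟩

end Flag

end Cfsg.Agent.Omega.NO3S.Dual
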