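import Cfsg.Agent.Omega.NO3S.Pt.Base
import Cfsg.Agent.Omega.NO3S.Dual.Flag

/-!
# NO-3S, `q = 2`: `Dual.Flag` is helper740's `Pt.Fr`
-/

set_option autoImplicit false

namespace Cfsg.Agent.Omega.NO3S.Dual

universe u

variable {G : Type u} [Group G] {T V : Subgroup G} {z : G}

theorem Flag.of_fr (h : Pt.Fr T V z) : Flag T V z := ⟨h.ln, h.ab, h.f1⟩

theorem Flag.toFr (h : Flag T V z) : Pt.Fr T V z := ⟨h.ln, h.ab, h.f1⟩

end Cfsg.Agent.Omega.NO3S.Dual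

namespace Cfsg.Agent.Omega.NO3S.Pt.Fr

open Subgroup Cfsg Cfsg.Agent.ZN Cfsg.Agent.MinSimple.Geo Cfsg.Agent.Omega.CaseL
open Cfsg.Agent.Omega.NO3S.Dual

universe u

variable {G : Type u} [Group G] {T V : Subgroup G} {z : G}

/-- the flag of helper804's duality tools -/
theorem toFlag (h : Fr T V z) : Flag T V z := ⟨h.ln, h.ab, h.f1⟩

end Cfsg.Agent.Omega.NO3S.Pt.Fr
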